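import Mathlib.RingTheory.Localization.AtPrime.Basic
import Mathlib.RingTheory.LocalRing.ResidueField.Basic
import Mathlib.RingTheory.Polynomial.Basic
import Mathlib.RingTheory.Smooth.Basic
import Mathlib.AlgebraicGeometry.Morphisms.Smooth

/-!
# The local ring of the affine line over a local ring at the origin of the closed fibre
-/

set_option autoImplicit false

universe u

open Polynomial IsLocalRing AlgebraicGeometry

namespace Groth.Agent.Etbc.H225.AffLine

variable (A : Type u) [CommRing A] [IsLocalRing A] (P : Ideal A[X])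
  (hP : P = (maximalIdeal A).map C ⊔ Ideal.span {X})

include hP

theorem mem_iff (f : A[X]) : f ∈ P ↔ f.coeff 0 ∈ maximalIdeal A := by
  constructor
  · intro hf
    have h1 : P ≤ (maximalIdeal A).comap (constantCoeff : A[X] →+* A) := by
      rw [hP, sup_le_iff]
      constructor
      · rw [Ideal.map_le_iff_le_comap]
        intro a ha
        rw [Ideal.mem_comap, Ideal.mem_comap, constantCoeff_apply, coeff_C_zero]
        exact ha
      · rw [Ideal.span_le]
        rintro _ rfl
        change (X : A[X]) ∈ (maximalIdeal A).comap (constantCoeff : A[X] →+* A)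
        rw [Ideal.mem_comap, constantCoeff_apply, coeff_X_zero]
        exact Ideal.zero_mem _
    exact h1 hf
  · intro hf
    have h1 : f = C (f.coeff 0) + X * f.divX := by
      rw [add_comm, X_mul_divX_add]
    rw [h1, hP]
    refine Ideal.add_mem _ (Ideal.mem_sup_left (Ideal.mem_map_of_mem _ hf))
      (Ideal.mem_sup_right (Ideal.mul_mem_right _ _ (Ideal.subset_span rfl)))

theorem C_mem_iff (a : A) : C a ∈ P ↔ a ∈ maximalIdeal A := by
  rw [mem_iff A P hP, coeff_C_zero]

theorem comap_C : P.comap (C : A →+* A[X]) = maximalIdeal A := by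
  ext a
  exact C_mem_iff A P hP a

theorem isLocalHom [P.IsPrime] (R : Type u) [CommRing R] [IsLocalRing R] [Algebra A[X] R]
    [IsLocalization.AtPrime R P] : IsLocalHom ((algebraMap A[X] R).comp C) := by
  constructor
  intro a ha
  by_contra hna
  have h1 : C a ∈ P := (C_mem_iff A P hP a).2 hna
  exact (IsLocalization.AtPrime.isUnit_to_map_iff R P (C a)).1 ha h1

theorem residue_surjective [P.IsPrime] (R : Type u) [CommRing R] [IsLocalRing R] [Algebra A[X] R]
    [IsLocalization.AtPrime R P] [IsLocalHom ((algebraMap A[X] R).comp C)] :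
    Function.Surjective (ResidueField.map ((algebraMap A[X] R).comp C)) := by
  intro x
  obtain ⟨r, rfl⟩ := IsLocalRing.residue_surjective x
  obtain ⟨f, s, rfl⟩ := IsLocalization.exists_mk'_eq P.primeCompl r
  have hs : IsUnit ((s : A[X]).coeff 0) := by
    by_contra h
    exact s.2 ((mem_iff A P hP s).2 h)
  obtain ⟨u, hu⟩ := hs
  refine ⟨residue A (f.coeff 0 * ((u⁻¹ : Aˣ) : A)), ?_⟩
  change residue R (algebraMap A[X] R (C _)) = _
  rw [← sub_eq_zero, ← map_sub, residue_eq_zero_iff]
  have hsu : IsUnit (algebraMap A[X] R s) := IsLocalization.map_units R s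
  have h1 : (algebraMap A[X] R (C (f.coeff 0 * ((u⁻¹ : Aˣ) : A))) - IsLocalization.mk' R f s) *
      algebraMap A[X] R s ∈ maximalIdeal R := by
    rw [sub_mul, IsLocalization.mk'_spec, ← map_mul, ← map_sub]
    refine (IsLocalization.AtPrime.to_map_mem_maximal_iff R P _).2 ?_
    rw [mem_iff A P hP, coeff_sub, coeff_C_mul, ← hu, mul_assoc, Units.inv_mul, mul_one, sub_self]
    exact Ideal.zero_mem _
  exact (Ideal.mul_unit_mem_iff_mem _ hsu).1 h1

omit [IsLocalRing A] hP in
theorem smooth : Smooth (Spec.map (CommRingCat.ofHom (C : A →+* A[X]))) := by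
  rw [HasRingHomProperty.Spec_iff (P := @Smooth)]
  have h1 : Algebra.Smooth A A[X] := ⟨inferInstance, inferInstance⟩
  have h2 : (algebraMap A A[X]).Smooth := by
    rw [RingHom.smooth_algebraMap]
    exact h1
  exact h2

end Groth.Agent.Etbc.H225.AffLine
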