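import Groth.Prelude.Def_Hens2
import Groth.Agent.EtpbcB.StrictHensTransport
import Mathlib.AlgebraicGeometry.Stalk
import Mathlib.RingTheory.Localization.AtPrime.Basic

/-!
# Strict henselizations of local rings of affine schemes through arbitrary models of the localization
-/

set_option autoImplicit false

universe u

open CategoryTheory CategoryTheory.Limits AlgebraicGeometry Opposite IsLocalRing

namespace Groth.Agent.Etbc.H225.AffStalk

/-- A strict henselization of a model `L` of the localization of `R` at a prime gives a strict henselization of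
the stalk of `Spec R`. -/
theorem exists_specOf (R : Type u) [CommRing R] (x : Spec (CommRingCat.of R)) (p : Ideal R)
    [p.IsPrime] (hx : PrimeSpectrum.asIdeal x = p)
    (L : Type u) [CommRing L] [Algebra R L] [IsLocalRing L] [IsLocalization.AtPrime L p]
    (T : Type u) [CommRing T] [IsLocalRing T] [Algebra L T] [IsLocalHom (algebraMap L T)]
    [h : Hensel.IsStrictHenselization L T] :
    ∃ (_ : Algebra ((Spec (CommRingCat.of R)).presheaf.stalk x) T)
      (_ : IsLocalHom (algebraMap ((Spec (CommRingCat.of R)).presheaf.stalk x) T))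
      (_ : Hensel.IsStrictHenselization ((Spec (CommRingCat.of R)).presheaf.stalk x) T),
      Hens2.specOf (Spec (CommRingCat.of R)) x T =
        Spec.map (CommRingCat.ofHom ((algebraMap L T).comp (algebraMap R L))) := by
  subst hx
  let _ : Algebra R ((Spec (CommRingCat.of R)).presheaf.stalk x) :=
    StructureSheaf.stalkAlgebra (R := R) x
  have hl : IsLocalization.AtPrime ((Spec (CommRingCat.of R)).presheaf.stalk x)
      (PrimeSpectrum.asIdeal x) :=
    StructureSheaf.IsLocalization.to_stalk (R := R) x
  let e : (Spec (CommRingCat.of R)).presheaf.stalk x ≃ₐ[R] L :=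
    IsLocalization.algEquiv (PrimeSpectrum.asIdeal x).primeCompl _ _
  let α : (Spec (CommRingCat.of R)).presheaf.stalk x →+* T :=
    (algebraMap L T).comp (e : (Spec (CommRingCat.of R)).presheaf.stalk x →+* L)
  let _ : Algebra ((Spec (CommRingCat.of R)).presheaf.stalk x) T := α.toAlgebra
  have hα : IsLocalHom (algebraMap ((Spec (CommRingCat.of R)).presheaf.stalk x) T) := by
    constructor
    intro a ha
    have h1 : IsUnit (algebraMap L T (e a)) := ha
    have h2 := isUnit_of_map_unit (algebraMap L T) _ h1
    have h3 := h2.map e.symm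
    rwa [e.symm_apply_apply] at h3
  refine ⟨inferInstance, hα, ?_, ?_⟩
  · exact Groth.Agent.EtpbcB.StrictHensTransport.of_ringEquiv _ L T e.toRingEquiv rfl
  · change Spec.map (CommRingCat.ofHom α) ≫ (Spec (CommRingCat.of R)).fromSpecStalk x = _
    refine (congrArg (fun q => Spec.map (CommRingCat.ofHom α) ≫ q)
      (Spec.fromSpecStalk_eq' (CommRingCat.of R) x)).trans ?_
    refine (Spec.map_comp _ _).symm.trans ?_
    refine congrArg Spec.map (CommRingCat.hom_ext (RingHom.ext fun r => ?_))
    change algebraMap L T (e (algebraMap R _ r)) = algebraMap L T (algebraMap R L r)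
    rw [e.commutes]

/-- Compatibility with the map of local rings, in terms of morphisms to the schemes. -/
theorem specOf_comm {X S : Scheme.{u}} (f : X ⟶ S) (x : X) (RS RX : Type u) [CommRing RS]
    [CommRing RX] [Algebra (S.presheaf.stalk (f x)) RS] [Algebra (X.presheaf.stalk x) RX]
    (β : RS →+* RX)
    (h : Spec.map (CommRingCat.ofHom β) ≫ Hens2.specOf S (f x) RS = Hens2.specOf X x RX ≫ f) :
    β.comp (algebraMap (S.presheaf.stalk (f x)) RS) =
      (algebraMap (X.presheaf.stalk x) RX).comp (f.stalkMap x).hom := by
  have h1 : Hens2.specOf X x RX ≫ f = Spec.map (CommRingCat.ofHom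
      ((algebraMap (X.presheaf.stalk x) RX).comp (f.stalkMap x).hom)) ≫ S.fromSpecStalk (f x) := by
    rw [Hens2.specOf, Category.assoc, ← Scheme.SpecMap_stalkMap_fromSpecStalk, ← Category.assoc,
      ← Spec.map_comp]
    rfl
  rw [h1, Hens2.specOf, ← Category.assoc, ← Spec.map_comp, cancel_mono] at h
  have h2 := Spec.map_injective h
  exact congrArg CommRingCat.Hom.hom h2

end Groth.Agent.Etbc.H225.AffStalk
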