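import Groth.Agent.Etrest.SHPoint

/-!
# A scheme whose constant sheaf `ℤ/ℓ` has global sections `ℤ/ℓ` is nonempty and connected
-/

set_option autoImplicit false

universe u

open CategoryTheory CategoryTheory.Limits AlgebraicGeometry Opposite

namespace Groth.Agent.Etbc.H225.ConnOfH0

theorem topological {X : Type*} [TopologicalSpace X] (M : Type*) [Finite M] [Nontrivial M]
    (e : LocallyConstant X M ≃ M) : Nonempty X ∧ ConnectedSpace X := by
  classical
  have hne : Nonempty X := by
    by_contra h
    rw [not_nonempty_iff] at h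
    obtain ⟨a, b, hab⟩ := exists_pair_ne M
    apply hab
    have : e.symm a = e.symm b := by
      ext x
      exact h.elim x
    simpa using this
  refine ⟨hne, ?_⟩
  have hfin : Finite (LocallyConstant X M) := Finite.of_equiv _ e.symm
  -- constants
  let c : M → LocallyConstant X M := fun m => LocallyConstant.const X m
  have hc : Function.Injective c := by
    intro a b hab
    obtain ⟨x⟩ := hne
    exact congrArg (fun f : LocallyConstant X M => f x) hab
  have hc' : Function.Surjective c := by
    have h1 : Function.Injective (e ∘ c) := e.injective.comp hc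
    have h2 : Function.Surjective (e ∘ c) := Finite.injective_iff_surjective.1 h1
    intro f
    obtain ⟨m, hm⟩ := h2 (e f)
    exact ⟨m, e.injective hm⟩
  have hpre : PreconnectedSpace X := by
    rw [preconnectedSpace_iff_clopen]
    intro s hs
    obtain ⟨a, b, hab⟩ := exists_pair_ne M
    let g : Fin 2 → M := fun i => if i = 0 then a else b
    obtain ⟨m, hm⟩ := hc' ((LocallyConstant.ofIsClopen hs).map g)
    have hval : ∀ x, (if x ∈ s then a else b) = m := by
      intro x
      have h1 := congrArg (fun f : LocallyConstant X M => f x) hm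
      change m = g (if x ∈ s then 0 else 1) at h1
      rw [h1]
      split_ifs <;> simp [g]
    by_contra hcon
    push Not at hcon
    obtain ⟨h1, h2⟩ := hcon
    obtain ⟨x, hx⟩ := h1
    obtain ⟨z, hz⟩ := (Set.ne_univ_iff_exists_notMem s).1 h2
    have hx' := hval x
    have hz' := hval z
    rw [if_pos hx] at hx'
    rw [if_neg hz] at hz'
    exact hab (hx'.trans hz'.symm)
  exact { hpre with toNonempty := hne }

theorem connectedSpace_of_H0 (X : Scheme.{u}) (M : Type) [AddCommGroup M] [Finite M] [Nontrivial M]
    (h : Nonempty (EtCoh.H X (EtCoh.const X M) 0 ≃+ M)) : Nonempty X ∧ ConnectedSpace X := by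
  obtain ⟨h⟩ := h
  let e1 : EtCoh.H X (EtCoh.const X M) 0 ≃+ EtCoh.sect (EtCoh.const X M) (EtCoh.top X) :=
    Sheaf.H.equiv₀ _ (EtCore.topIsTerminal X)
  let e2 : EtCoh.sect (EtCoh.const X M) (EtCoh.top X) ≃+
      LocallyConstant (EtCoh.top X).left (ULift.{u + 1} M) :=
    (((sheafToPresheaf _ _).mapIso (Groth.Agent.Sga4B.ConstLC.constIso X M)).app
      (op (EtCoh.top X))).addCommGroupIsoToAddEquiv
  exact topological (X := X) (ULift.{u + 1} M)
    (((e1.trans e2).symm.trans (h.trans AddEquiv.ulift.symm)).toEquiv)

end Groth.Agent.Etbc.H225.ConnOfH0
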