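import Groth.Agent.Etrest.IntHens
import Groth.Agent.Flat2G.StrictHens

/-!
# Base change of a henselian local ring to a strict henselization

Let `A → B` be a local homomorphism of henselian local rings inducing a surjection on residue fields and
let `A'` be a strict henselization of `A`.

* `isIntegral_of_isStrictHenselization`: `A'` is integral over `A`.
* `isLocalRing_tensor`, `henselianLocalRing_tensor`: `B ⊗[A] A'` is a henselian local ring.
* `isStrictHenselization_tensor`: it is a strict henselization of `B`.
* `exists_algHom_sepClosed`: a ring map from `A` to a separably closed field extends to `A'`.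
-/

set_option autoImplicit false

universe u

open TensorProduct IsLocalRing

namespace Groth.Agent.Etbc.H225.TensorSH

section Integral

variable (A A' : Type u) [CommRing A] [HenselianLocalRing A] [CommRing A'] [IsLocalRing A'] [Algebra A A']
  [IsLocalHom (algebraMap A A')]

/-- Strict henselizations of henselian local rings are integral. -/
theorem isIntegral_of_isStrictHenselization [Hensel.IsStrictHenselization A A'] :
    Algebra.IsIntegral A A' := by
  constructor
  intro z
  obtain ⟨E, _, _, _, χ, hχ⟩ :=
    Groth.Agent.Hensel.Lazard.exists_etale_of_isStrictHenselization A A' {z}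
  obtain ⟨e, he⟩ := hχ (by simp : z ∈ _)
  let q : Ideal E := (maximalIdeal A').comap χ.toRingHom
  have hq : q.IsPrime := Ideal.comap_isPrime _ _
  have hover : q.LiesOver (maximalIdeal A) := by
    constructor
    ext a
    rw [Ideal.mem_comap, Ideal.mem_comap]
    have h1 : χ.toRingHom (algebraMap A E a) = algebraMap A A' a := χ.commutes a
    rw [h1, mem_maximalIdeal, mem_maximalIdeal, mem_nonunits_iff, mem_nonunits_iff, isUnit_map_iff]
  have hqf : Algebra.QuasiFinite A E := inferInstance
  have hint : Algebra.IsIntegral A (Localization.AtPrime q) :=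
    Groth.Agent.Etrest.IntHens.isIntegral_of_zariskisMainProperty A E q
      (Algebra.ZariskisMainProperty.of_finiteType _) (Localization.AtPrime q)
  have hunit : ∀ y : q.primeCompl, IsUnit (χ.toRingHom y) := by
    intro y
    by_contra hy
    exact y.2 ((mem_maximalIdeal _).2 hy)
  let η : Localization.AtPrime q →+* A' :=
    IsLocalization.lift (M := q.primeCompl) (g := χ.toRingHom) hunit
  have hη : ∀ z : E, η (algebraMap E _ z) = χ z := fun z => IsLocalization.lift_eq hunit z
  let η' : Localization.AtPrime q →ₐ[A] A' :=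
    { toRingHom := η
      commutes' := fun a => by
        change η (algebraMap A (Localization.AtPrime q) a) = _
        rw [IsScalarTower.algebraMap_apply A E (Localization.AtPrime q), hη, χ.commutes] }
  have h2 : IsIntegral A (η' (algebraMap E _ e)) := (hint.isIntegral _).map η'
  have h3 : η' (algebraMap E _ e) = z := (hη e).trans he
  rwa [h3] at h2

end Integral

section Tensor

variable (A B A' : Type u) [CommRing A] [CommRing B] [CommRing A'] [IsLocalRing A]
  [IsLocalRing B] [IsLocalRing A'] [Algebra A B] [Algebra A A'] [IsLocalHom (algebraMap A B)]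
  [IsLocalHom (algebraMap A A')]

/-- The residue homomorphism of `B ⊗[A] A'`. -/
theorem exists_residueHom (hres : Function.Surjective (ResidueField.map (algebraMap A B))) :
    ∃ ρ : B ⊗[A] A' →+* ResidueField A', (∀ a : A', ρ (1 ⊗ₜ a) = residue A' a) ∧
      ∀ (b : B) (c : A), residue B b = residue B (algebraMap A B c) →
        ρ (b ⊗ₜ 1) = residue A' (algebraMap A A' c) := by
  let e : ResidueField A ≃+* ResidueField B :=
    RingEquiv.ofBijective (ResidueField.map (algebraMap A B))
      ⟨(ResidueField.map (algebraMap A B)).injective, hres⟩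
  let β : B →+* ResidueField A' :=
    ((ResidueField.map (algebraMap A A')).comp (e.symm : ResidueField B →+* ResidueField A)).comp
      (residue B)
  have hβ : ∀ (b : B) (c : A), residue B b = residue B (algebraMap A B c) →
      β b = residue A' (algebraMap A A' c) := by
    intro b c h
    change ResidueField.map (algebraMap A A') (e.symm (residue B b)) = _
    rw [h]
    have h1 : e (residue A c) = residue B (algebraMap A B c) := rfl
    rw [← h1, e.symm_apply_apply]
    rfl
  let β' : B →ₐ[A] ResidueField A' :=
    { toRingHom := β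
      commutes' := fun a => hβ _ a rfl }
  let ρ : B ⊗[A] A' →ₐ[A] ResidueField A' :=
    Algebra.TensorProduct.lift β' (IsScalarTower.toAlgHom A A' (ResidueField A'))
      (fun _ _ => Commute.all _ _)
  refine ⟨ρ.toRingHom, fun a => ?_, fun b c h => ?_⟩
  · change ρ (1 ⊗ₜ a) = _
    rw [Algebra.TensorProduct.lift_tmul, map_one, one_mul]
    rfl
  · change ρ (b ⊗ₜ 1) = _
    rw [Algebra.TensorProduct.lift_tmul, map_one, mul_one]
    exact hβ b c h

omit [IsLocalRing A'] [IsLocalHom (algebraMap A A')] in
theorem exists_sub_mem (hres : Function.Surjective (ResidueField.map (algebraMap A B)))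
    (z : B ⊗[A] A') : ∃ a : A', z - 1 ⊗ₜ a ∈
      (maximalIdeal B).map (Algebra.TensorProduct.includeLeftRingHom : B →+* B ⊗[A] A') := by
  induction z using TensorProduct.induction_on with
  | zero => exact ⟨0, by simp⟩
  | tmul b a =>
    obtain ⟨x, hx⟩ := hres (residue B b)
    obtain ⟨c, rfl⟩ := residue_surjective x
    refine ⟨algebraMap A A' c * a, ?_⟩
    have h1 : (b ⊗ₜ[A] a : B ⊗[A] A') - 1 ⊗ₜ (algebraMap A A' c * a) =
        (Algebra.TensorProduct.includeLeftRingHom : B →+* B ⊗[A] A') (b - algebraMap A B c) *
          (1 ⊗ₜ a) := by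
      rw [map_sub, sub_mul]
      congr 1
      · simp
      · rw [← Algebra.smul_def, ← TensorProduct.smul_tmul]
        simp [Algebra.smul_def]
    rw [h1]
    refine Ideal.mul_mem_right _ _ (Ideal.mem_map_of_mem _ ?_)
    rw [← residue_eq_zero_iff, map_sub, ← hx]
    exact sub_self _
  | add x y hx hy =>
    obtain ⟨a, ha⟩ := hx
    obtain ⟨b, hb⟩ := hy
    refine ⟨a + b, ?_⟩
    have := Ideal.add_mem _ ha hb
    rw [TensorProduct.tmul_add]
    convert this using 1
    abel

omit [IsLocalHom (algebraMap A A')] in
/-- `B ⊗[A] A'` is local, with an explicit residue map. -/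
theorem isLocalRing_tensor' [Algebra.IsIntegral A A']
    (hm : (maximalIdeal A).map (algebraMap A A') = maximalIdeal A')
    (hres : Function.Surjective (ResidueField.map (algebraMap A B))) (ρ : B ⊗[A] A' →+* ResidueField A')
    (hρ : ∀ a : A', ρ (1 ⊗ₜ a) = residue A' a)
    (hρ' : ∀ (b : B) (c : A), residue B b = residue B (algebraMap A B c) →
        ρ (b ⊗ₜ 1) = residue A' (algebraMap A A' c)) :
    ∃ _ : IsLocalRing (B ⊗[A] A'), maximalIdeal (B ⊗[A] A') = RingHom.ker ρ ∧
      RingHom.ker ρ = (maximalIdeal B).map
        (Algebra.TensorProduct.includeLeftRingHom : B →+* B ⊗[A] A') := by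
  have hsurj : Function.Surjective ρ := by
    intro y
    obtain ⟨a, rfl⟩ := residue_surjective y
    exact ⟨_, hρ a⟩
  have hmax : (RingHom.ker ρ).IsMaximal := RingHom.ker_isMaximal_of_surjective _ hsurj
  have hint : Algebra.IsIntegral B (B ⊗[A] A') := inferInstance
  have hge : (maximalIdeal B).map
      (Algebra.TensorProduct.includeLeftRingHom : B →+* B ⊗[A] A') ≤ RingHom.ker ρ := by
    rw [Ideal.map_le_iff_le_comap]
    intro b hb
    rw [Ideal.mem_comap, RingHom.mem_ker]
    have h1 := hρ' b 0 (by rw [map_zero, map_zero, residue_eq_zero_iff]; exact hb)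
    rw [map_zero, map_zero] at h1
    exact h1
  have hle : RingHom.ker ρ ≤ (maximalIdeal B).map
      (Algebra.TensorProduct.includeLeftRingHom : B →+* B ⊗[A] A') := by
    intro z hz
    obtain ⟨a, ha⟩ := exists_sub_mem A B A' hres z
    have h1 : ρ (1 ⊗ₜ a) = 0 := by
      have h2 := hge ha
      rw [RingHom.mem_ker, map_sub, RingHom.mem_ker.1 hz, zero_sub, neg_eq_zero] at h2
      exact h2
    rw [hρ, residue_eq_zero_iff, ← hm] at h1
    have h3 : (Algebra.TensorProduct.includeRight : A' →ₐ[A] B ⊗[A] A').toRingHom a ∈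
        (maximalIdeal B).map (Algebra.TensorProduct.includeLeftRingHom : B →+* B ⊗[A] A') := by
      have h4 := Ideal.mem_map_of_mem
        (Algebra.TensorProduct.includeRight : A' →ₐ[A] B ⊗[A] A').toRingHom h1
      rw [Ideal.map_map] at h4
      have h5 : (Algebra.TensorProduct.includeRight : A' →ₐ[A] B ⊗[A] A').toRingHom.comp
          (algebraMap A A') = (Algebra.TensorProduct.includeLeftRingHom : B →+* B ⊗[A] A').comp
          (algebraMap A B) := by
        ext c
        simp
      rw [h5, ← Ideal.map_map] at h4
      refine Ideal.map_mono ?_ h4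
      exact ((local_hom_TFAE (algebraMap A B)).out 0 2 rfl rfl).mp inferInstance
    have h6 : z = (z - 1 ⊗ₜ a) + 1 ⊗ₜ a := by ring
    rw [h6]
    exact Ideal.add_mem _ ha h3
  have heq := le_antisymm hle hge
  have hloc : IsLocalRing (B ⊗[A] A') := by
    refine IsLocalRing.of_unique_max_ideal ⟨RingHom.ker ρ, hmax, fun M hM => ?_⟩
    refine (hmax.eq_of_le hM.ne_top ?_).symm
    rw [heq, Ideal.map_le_iff_le_comap]
    have h1 : (M.comap (algebraMap B (B ⊗[A] A'))).IsMaximal :=
      Ideal.isMaximal_comap_of_isIntegral_of_isMaximal M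
    exact (IsLocalRing.eq_maximalIdeal h1).ge
  exact ⟨hloc, (IsLocalRing.eq_maximalIdeal hmax).symm, heq⟩

end Tensor

section SH

variable (A B A' : Type u) [CommRing A] [CommRing B] [CommRing A'] [HenselianLocalRing A]
  [HenselianLocalRing B] [IsLocalRing A'] [Algebra A B] [Algebra A A'] [IsLocalHom (algebraMap A B)]
  [IsLocalHom (algebraMap A A')]

theorem isLocalRing_tensor [Hensel.IsStrictHenselization A A']
    (hres : Function.Surjective (ResidueField.map (algebraMap A B))) :
    IsLocalRing (B ⊗[A] A') := by
  have := isIntegral_of_isStrictHenselization A A'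
  obtain ⟨ρ, h1, h2⟩ := exists_residueHom A B A' hres
  exact (isLocalRing_tensor' A B A'
    (Groth.Agent.Hensel.Exist.map_maximalIdeal_of_isStrictHenselization A A') hres ρ h1 h2).1

theorem henselianLocalRing_tensor [Hensel.IsStrictHenselization A A']
    (hres : Function.Surjective (ResidueField.map (algebraMap A B))) :
    HenselianLocalRing (B ⊗[A] A') := by
  have := isIntegral_of_isStrictHenselization A A'
  have := isLocalRing_tensor A B A' hres
  exact Groth.Agent.Etrest.IntHens.henselianLocalRing_of_isIntegral B (B ⊗[A] A')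

omit [HenselianLocalRing B] [IsLocalHom (algebraMap A B)] in
theorem isLocalHom_includeLeft [IsLocalRing (B ⊗[A] A')] [Hensel.IsStrictHenselization A A'] :
    IsLocalHom (algebraMap B (B ⊗[A] A')) := by
  have := isIntegral_of_isStrictHenselization A A'
  have hff : Module.FaithfullyFlat A A' :=
    Groth.Agent.Hensel.Lazard.faithfullyFlat_of_isStrictHenselization A A'
  have : Module.FaithfullyFlat B (B ⊗[A] A') := inferInstance
  exact Algebra.IsIntegral.isLocalHom _ _

omit [HenselianLocalRing B] in
theorem isLocalHom_includeRight [IsLocalRing (B ⊗[A] A')]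
    [IsLocalHom (algebraMap B (B ⊗[A] A'))] [Hensel.IsStrictHenselization A A'] :
    IsLocalHom (Algebra.TensorProduct.includeRight : A' →ₐ[A] B ⊗[A] A').toRingHom := by
  constructor
  intro a ha
  by_contra hna
  have h1 : a ∈ maximalIdeal A' := (mem_maximalIdeal _).2 hna
  rw [← Groth.Agent.Hensel.Exist.map_maximalIdeal_of_isStrictHenselization A A'] at h1
  have h4 := Ideal.mem_map_of_mem
    (Algebra.TensorProduct.includeRight : A' →ₐ[A] B ⊗[A] A').toRingHom h1
  rw [Ideal.map_map] at h4
  have h5 : (Algebra.TensorProduct.includeRight : A' →ₐ[A] B ⊗[A] A').toRingHom.comp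
      (algebraMap A A') = (algebraMap B (B ⊗[A] A')).comp (algebraMap A B) := by
    ext c
    simp
  rw [h5] at h4
  have h7 : Ideal.map ((algebraMap B (B ⊗[A] A')).comp (algebraMap A B)) (maximalIdeal A) ≤
      maximalIdeal (B ⊗[A] A') :=
    ((local_hom_TFAE ((algebraMap B (B ⊗[A] A')).comp (algebraMap A B))).out 0 2 rfl rfl).mp
      inferInstance
  exact (mem_maximalIdeal _).1 (h7 h4) ha

/-- `B ⊗[A] A'` is a strict henselization of `B`. -/
theorem isStrictHenselization_tensor [hA' : Hensel.IsStrictHenselization A A']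
    (hres : Function.Surjective (ResidueField.map (algebraMap A B)))
    [IsLocalRing (B ⊗[A] A')] [IsLocalHom (algebraMap B (B ⊗[A] A'))] :
    Hensel.IsStrictHenselization B (B ⊗[A] A') := by
  let ir : A' →+* B ⊗[A] A' := (Algebra.TensorProduct.includeRight : A' →ₐ[A] B ⊗[A] A').toRingHom
  have hir : IsLocalHom ir := isLocalHom_includeRight A B A'
  have hir1 : ∀ a, ir a = 1 ⊗ₜ a := fun a => rfl
  have hcomm : ir.comp (algebraMap A A') = (algebraMap B (B ⊗[A] A')).comp (algebraMap A B) := by
    ext c
    change (Algebra.TensorProduct.includeRight : A' →ₐ[A] B ⊗[A] A') (algebraMap A A' c) = _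
    simp
  have hle : (maximalIdeal B).map
      (Algebra.TensorProduct.includeLeftRingHom : B →+* B ⊗[A] A') ≤ maximalIdeal (B ⊗[A] A') :=
    ((local_hom_TFAE (algebraMap B (B ⊗[A] A'))).out 0 2 rfl rfl).mp inferInstance
  have hsurj : Function.Surjective (ResidueField.map ir) := by
    intro x
    obtain ⟨z, rfl⟩ := residue_surjective x
    obtain ⟨a, ha⟩ := exists_sub_mem A B A' hres z
    refine ⟨residue A' a, ?_⟩
    have h1 := hle ha
    rw [← residue_eq_zero_iff, map_sub, sub_eq_zero] at h1
    exact h1.symm
  let e₁ : ResidueField A ≃+* ResidueField B :=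
    RingEquiv.ofBijective (ResidueField.map (algebraMap A B))
      ⟨(ResidueField.map (algebraMap A B)).injective, hres⟩
  let e₂ : ResidueField A' ≃+* ResidueField (B ⊗[A] A') :=
    RingEquiv.ofBijective (ResidueField.map ir) ⟨(ResidueField.map ir).injective, hsurj⟩
  have hsc := hA'.isSepClosure
  have hsc1 : IsSepClosed (ResidueField A') := hsc.sep_closed
  have hsc2 : Algebra.IsSeparable (ResidueField A) (ResidueField A') := hsc.separable
  refine ⟨henselianLocalRing_tensor A B A' hres, ⟨?_, ?_⟩, ?_⟩
  · exact Groth.Agent.Hensel.Exist.isSepClosed_of_ringEquiv e₂.symm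
  · refine Algebra.IsSeparable.of_equiv_equiv e₁ e₂ ?_
    ext x
    obtain ⟨a, rfl⟩ := residue_surjective x
    change residue _ (algebraMap B (B ⊗[A] A') (algebraMap A B a)) = residue _ (ir (algebraMap A A' a))
    exact congrArg _ (congr($hcomm a)).symm
  · intro T _ _ f hf τ hτ
    let f₀ : A →+* T := f.comp (algebraMap A B)
    let τ₀ : ResidueField A' →+* ResidueField T := τ.comp (ResidueField.map ir)
    have hτ₀ : τ₀.comp (ResidueField.map (algebraMap A A')) = ResidueField.map f₀ := by
      ext x
      obtain ⟨a, rfl⟩ := residue_surjective x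
      change τ (residue _ (ir (algebraMap A A' a))) = residue T (f (algebraMap A B a))
      have h1 := congr($hcomm a)
      have h2 := congr($hτ (residue B (algebraMap A B a)))
      change τ (residue _ (algebraMap B (B ⊗[A] A') (algebraMap A B a))) =
        residue T (f (algebraMap A B a)) at h2
      rw [← h2]
      exact congrArg _ (congrArg _ h1)
    obtain ⟨g₀, ⟨hg1, hg2⟩, hg3⟩ := hA'.universal T f₀ τ₀ hτ₀
    let _ : Algebra A T := f₀.toAlgebra
    let f' : B →ₐ[A] T := { toRingHom := f, commutes' := fun a => rfl }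
    let g' : A' →ₐ[A] T := { toRingHom := g₀, commutes' := fun a => congr($hg1 a) }
    let g : B ⊗[A] A' →ₐ[A] T := Algebra.TensorProduct.lift f' g' (fun _ _ => Commute.all _ _)
    have hg : ∀ b a, g (b ⊗ₜ a) = f b * g₀ a := fun b a => Algebra.TensorProduct.lift_tmul _ _ _ _ _
    refine ⟨g.toRingHom, ⟨?_, ?_⟩, ?_⟩
    · ext b
      change g (b ⊗ₜ 1) = f b
      rw [hg, map_one, mul_one]
    · intro x
      change residue T (g x) = τ (residue _ x)
      induction x using TensorProduct.induction_on with
      | zero => rw [map_zero, map_zero, map_zero, map_zero]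
      | add x y hx hy => rw [map_add, map_add, map_add, map_add, hx, hy]
      | tmul b a =>
        have h1 : (b ⊗ₜ[A] a : B ⊗[A] A') = algebraMap B (B ⊗[A] A') b * ir a := by
          rw [hir1]
          simp
        rw [hg, map_mul, hg2, h1, map_mul, map_mul]
        have h2 := congr($hτ (residue B b))
        change τ (residue _ (algebraMap B (B ⊗[A] A') b)) = residue T (f b) at h2
        rw [h2]
        rfl
    · rintro h ⟨hh1, hh2⟩
      have h3 : h.comp ir = g₀ := by
        refine hg3 _ ⟨?_, fun a => ?_⟩
        · rw [RingHom.comp_assoc, hcomm, ← RingHom.comp_assoc, hh1]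
        · rw [RingHom.comp_apply, hh2]
          rfl
      refine RingHom.ext fun x => ?_
      change h x = g x
      induction x using TensorProduct.induction_on with
      | zero => rw [map_zero, map_zero]
      | add x y hx hy => rw [map_add, map_add, hx, hy]
      | tmul b a =>
        have h1 : (b ⊗ₜ[A] a : B ⊗[A] A') = algebraMap B (B ⊗[A] A') b * ir a := by
          rw [hir1]
          simp
        rw [hg, h1, map_mul]
        have h4 := congr($hh1 b)
        have h5 := congr($h3 a)
        rw [RingHom.comp_apply] at h4 h5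
        rw [h4, h5]

end SH

section Lift

/-- A ring homomorphism from `A` to a separably closed field extends to a strict henselization (or to any
faithfully flat weakly etale algebra). -/
theorem exists_algHom_sepClosed (A A' : Type u) [CommRing A] [CommRing A'] [Algebra A A']
    [Algebra.WeaklyEtale A A'] [Module.FaithfullyFlat A A'] (Ω : Type u) [Field Ω]
    [IsSepClosed Ω] [Algebra A Ω] : Nonempty (A' →ₐ[A] Ω) := by
  have h1 : Algebra.WeaklyEtale Ω (Ω ⊗[A] A') := inferInstance
  have h2 : Nontrivial (Ω ⊗[A] A') := inferInstance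
  obtain ⟨M, hM⟩ := Ideal.exists_maximal (Ω ⊗[A] A')
  let _ : Field ((Ω ⊗[A] A') ⧸ M) := Ideal.Quotient.field M
  have h3 : Algebra.WeaklyEtale Ω ((Ω ⊗[A] A') ⧸ M) :=
    (Groth.Agent.S1970.result Ω (Ω ⊗[A] A')).2 M
  have h4 : Algebra.IsSeparable Ω ((Ω ⊗[A] A') ⧸ M) := Groth.Agent.S0426.result
  have h5 : Function.Surjective (algebraMap Ω ((Ω ⊗[A] A') ⧸ M)) :=
    IsSepClosed.algebraMap_surjective Ω _
  let e : Ω ≃ₐ[A] ((Ω ⊗[A] A') ⧸ M) :=
    AlgEquiv.ofBijective (IsScalarTower.toAlgHom A Ω ((Ω ⊗[A] A') ⧸ M))
      ⟨(algebraMap Ω ((Ω ⊗[A] A') ⧸ M)).injective, h5⟩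
  exact ⟨(e.symm.toAlgHom.comp (Ideal.Quotient.mkₐ A M)).comp
    (Algebra.TensorProduct.includeRight : A' →ₐ[A] Ω ⊗[A] A')⟩

end Lift

end Groth.Agent.Etbc.H225.TensorSH
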