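import Groth.Agent.S0712
import Groth.Agent.Etbc.H225.TensorSH
import Groth.Agent.Etbc.H225.AffStalk
import Groth.Agent.Etbc.H225.AffLine

/-!
# Geometric fibres of `Spec A{t} → Spec A` for a henselian local ring `A`
-/

set_option autoImplicit false

universe u

open CategoryTheory CategoryTheory.Limits AlgebraicGeometry Opposite IsLocalRing TensorProduct

namespace Groth.Agent.Etbc.H225.GeomFibre

theorem main (A : Type u) [CommRing A] [HenselianLocalRing A]
    (P : Ideal (Polynomial A))
    (hP : P = (IsLocalRing.maximalIdeal A).map Polynomial.C ⊔ Ideal.span {Polynomial.X})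
    [P.IsPrime] (B : Type u) [CommRing B] [IsLocalRing B] [Algebra (Localization.AtPrime P) B]
    [IsLocalHom (algebraMap (Localization.AtPrime P) B)]
    [hB : Hensel.IsHenselization (Localization.AtPrime P) B]
    (φ : A →+* B) (hφ : φ = (algebraMap (Localization.AtPrime P) B).comp
      ((algebraMap (Polynomial A) (Localization.AtPrime P)).comp Polynomial.C))
    (Ω : Type u) [Field Ω] [IsSepClosed Ω]
    (g : Spec (CommRingCat.of Ω) ⟶ Spec (CommRingCat.of A))
    (ℓ : ℕ) (hℓ : (ℓ : ResidueField A) ≠ 0) (q : ℕ) :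
    (0 < q → Subsingleton (EtCoh.H (pullback (Spec.map (CommRingCat.ofHom φ)) g)
      (EtCoh.const _ (ZMod ℓ)) q)) ∧
    Nonempty (EtCoh.H (pullback (Spec.map (CommRingCat.ofHom φ)) g)
      (EtCoh.const _ (ZMod ℓ)) 0 ≃+ ZMod ℓ) := by
  classical
  let R := Localization.AtPrime P
  let ψ : A →+* R := (algebraMap (Polynomial A) R).comp Polynomial.C
  have hψ : IsLocalHom ψ := AffLine.isLocalHom A P hP R
  have hψs : Function.Surjective (ResidueField.map ψ) := AffLine.residue_surjective A P hP R
  have hBh : HenselianLocalRing B := hB.henselian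
  let _ : Algebra A B := φ.toAlgebra
  have hAB : algebraMap A B = (algebraMap R B).comp ψ := hφ
  have hABl : IsLocalHom (algebraMap A B) := by
    rw [hAB]
    infer_instance
  have hres : Function.Surjective (ResidueField.map (algebraMap A B)) := by
    intro x
    obtain ⟨y, rfl⟩ :=
      (Groth.Agent.Hensel.Exist.residueField_bijective_of_isHenselization R B).2 x
    obtain ⟨z, rfl⟩ := hψs y
    refine ⟨z, ?_⟩
    obtain ⟨a, rfl⟩ := IsLocalRing.residue_surjective z
    change residue B (algebraMap A B a) = residue B (algebraMap R B (ψ a))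
    rw [hAB]
    rfl
  -- the strict henselization of `A`
  obtain ⟨A', _, _, _, _, hA', -⟩ := Groth.Agent.Hensel.Exist.exists_isStrictHenselization A
  have hCl : IsLocalRing (B ⊗[A] A') := TensorSH.isLocalRing_tensor A B A' hres
  have hCh : IsLocalHom (algebraMap B (B ⊗[A] A')) := TensorSH.isLocalHom_includeLeft A B A'
  have hC : Hensel.IsStrictHenselization B (B ⊗[A] A') :=
    TensorSH.isStrictHenselization_tensor A B A' hres
  have hwe : Algebra.WeaklyEtale R B :=
    Groth.Agent.Flat2G.StrictHens.weaklyEtale_of_laz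
      (Groth.Agent.Hensel.Lazard.laz_of_isHenselization R B)
  have htow : IsScalarTower R B (B ⊗[A] A') := inferInstance
  have hRC : IsLocalHom (algebraMap R (B ⊗[A] A')) := by
    rw [IsScalarTower.algebraMap_eq R B (B ⊗[A] A')]
    infer_instance
  have hRC' : Hensel.IsStrictHenselization R (B ⊗[A] A') :=
    Groth.Agent.Flat2G.StrictHens.isStrictHenselization_of_weaklyEtale R B (B ⊗[A] A')
  let _ : Algebra A' (B ⊗[A] A') :=
    (Algebra.TensorProduct.includeRight : A' →ₐ[A] B ⊗[A] A').toRingHom.toAlgebra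
  have hA'C : IsLocalHom (algebraMap A' (B ⊗[A] A')) := TensorSH.isLocalHom_includeRight A B A'
  -- the geometry
  let X : Scheme.{u} := Spec (CommRingCat.of (Polynomial A))
  let f : X ⟶ Spec (CommRingCat.of A) := Spec.map (CommRingCat.ofHom (Polynomial.C : A →+* Polynomial A))
  have hf : Smooth f := AffLine.smooth A
  let x : X := (⟨P, inferInstance⟩ : PrimeSpectrum (Polynomial A))
  have hfx : PrimeSpectrum.asIdeal (f.base x) = maximalIdeal A := AffLine.comap_C A P hP
  obtain ⟨iX, iX', iX'', hspX⟩ := AffStalk.exists_specOf (Polynomial A) x P rfl R (B ⊗[A] A')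
  have hself : IsLocalization.AtPrime A (maximalIdeal A) := by
    refine IsLocalization.self fun a ha => ?_
    by_contra h
    exact ha ((mem_maximalIdeal _).2 h)
  obtain ⟨iS, iS', iS'', hspS⟩ := AffStalk.exists_specOf A (f.base x) (maximalIdeal A) hfx A A'
  have hc := AffStalk.specOf_comm f x A' (B ⊗[A] A')
    (algebraMap A' (B ⊗[A] A')) (by
      refine Eq.trans (congrArg (fun q => Spec.map (CommRingCat.ofHom
        (algebraMap A' (B ⊗[A] A'))) ≫ q) hspS) ?_
      refine Eq.trans ?_ (congrArg (fun q => q ≫ f) hspX).symm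
      refine (Spec.map_comp _ _).symm.trans (Eq.trans ?_ (Spec.map_comp _ _))
      refine congrArg Spec.map (CommRingCat.hom_ext (RingHom.ext fun a => ?_))
      change (Algebra.TensorProduct.includeRight : A' →ₐ[A] B ⊗[A] A') (algebraMap A A' a) =
        algebraMap B (B ⊗[A] A') (algebraMap R B (ψ a))
      rw [AlgHom.commutes, IsScalarTower.algebraMap_apply A B (B ⊗[A] A'), hAB]
      rfl)
  -- the geometric point
  obtain ⟨g₀, hg₀⟩ := Spec.map_surjective g
  let _ : Algebra A Ω := g₀.hom.toAlgebra
  have hff : Module.FaithfullyFlat A A' :=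
    Groth.Agent.Hensel.Lazard.faithfullyFlat_of_isStrictHenselization A A'
  have hweA : Algebra.WeaklyEtale A A' :=
    Groth.Agent.Flat2G.StrictHens.weaklyEtale_of_isStrictHenselization A A'
  obtain ⟨j⟩ := TensorSH.exists_algHom_sepClosed A A' Ω
  let _ : Algebra A' Ω := j.toRingHom.toAlgebra
  have hn : (ℓ : X.residueField x) ≠ 0 := by
    have h1 : IsUnit (ℓ : A) := by
      rw [← residue_ne_zero_iff_isUnit, map_natCast]
      exact hℓ
    let _ : Algebra (Polynomial A) (X.presheaf.stalk x) :=
      StructureSheaf.stalkAlgebra (R := Polynomial A) x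
    have h2 := h1.map ((X.residue x).hom.comp
      ((algebraMap (Polynomial A) (X.presheaf.stalk x)).comp Polynomial.C))
    rw [map_natCast] at h2
    exact h2.ne_zero
  obtain ⟨r1, r2⟩ := Groth.Agent.S0712.result f x A' (B ⊗[A] A') hc Ω ℓ hn q
  -- comparison of the fibres
  let W : Scheme.{u} := Spec (CommRingCat.of ((B ⊗[A] A') ⊗[A'] Ω))
  have hW1 : IsPullback
      (Spec.map (CommRingCat.ofHom
          (Algebra.TensorProduct.includeLeftRingHom (R := A') (A := B ⊗[A] A') (B := Ω))))
      (Spec.map (CommRingCat.ofHom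
        (Algebra.TensorProduct.includeRight (R := A') (A := B ⊗[A] A') (B := Ω)).toRingHom))
      (Spec.map (CommRingCat.ofHom (algebraMap A' (B ⊗[A] A'))))
      (Spec.map (CommRingCat.ofHom (algebraMap A' Ω))) :=
    isPullback_SpecMap_of_isPushout _ _ _ _
      (CommRingCat.isPushout_tensorProduct A' (B ⊗[A] A') Ω)
  have hW2 : IsPullback
      (Spec.map (CommRingCat.ofHom
          (Algebra.TensorProduct.includeLeftRingHom (R := A) (A := B) (B := A'))))
      (Spec.map (CommRingCat.ofHom (algebraMap A' (B ⊗[A] A'))))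
      (Spec.map (CommRingCat.ofHom (algebraMap A B)))
      (Spec.map (CommRingCat.ofHom (algebraMap A A'))) :=
    isPullback_SpecMap_of_isPushout _ _ _ _
      (CommRingCat.isPushout_tensorProduct A B A')
  have hg : Spec.map (CommRingCat.ofHom (algebraMap A' Ω)) ≫
      Spec.map (CommRingCat.ofHom (algebraMap A A')) = g := by
    rw [← hg₀, ← Spec.map_comp]
    refine congrArg Spec.map (CommRingCat.hom_ext (RingHom.ext fun a => ?_))
    exact j.commutes a
  have hW := hW1.paste_horiz hW2
  rw [hg] at hW
  have hPB : IsPullback (pullback.fst (Spec.map (CommRingCat.ofHom (algebraMap A B))) g)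
    (pullback.snd (Spec.map (CommRingCat.ofHom (algebraMap A B))) g)
    (Spec.map (CommRingCat.ofHom (algebraMap A B))) g := IsPullback.of_hasPullback _ g
  let w : pullback (Spec.map (CommRingCat.ofHom (algebraMap A B))) g ≅ W :=
    hPB.isoIsPullback _ _ hW
  have k3 : ∀ q : ℕ, EtCoh.H W (EtCoh.const W (ZMod ℓ)) q ≃+
      EtCoh.H (pullback (Spec.map (CommRingCat.ofHom (algebraMap A B))) g)
        (EtCoh.const _ (ZMod ℓ)) q := fun q =>
    (Groth.Agent.Etrest.IsoInv.HIso w.hom (EtCoh.const W (ZMod ℓ)) q).trans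
      (Groth.Agent.Etrest.IsoInv.HCongr (EtCore.pullConst w.hom (ZMod ℓ)) q)
  refine ⟨fun hq => ?_, ?_⟩
  · have := r1 hq
    exact (k3 q).symm.toEquiv.subsingleton
  · obtain ⟨e⟩ := r2
    exact ⟨(k3 0).symm.trans e⟩

end Groth.Agent.Etbc.H225.GeomFibre
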